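import Groth.Agent.CycLib.FibreMult
import Groth.Agent.CycLib.PushEquiv
import Groth.Agent.CycLib.C1Pull
import Groth.Agent.BivarLib.Chern
import Groth.Agent.GeomIrred.ClopenDescend

/-!
# Chow groups and finite flat universally injective maps of constant degree
-/

set_option autoImplicit false
set_option backward.isDefEq.respectTransparency false
set_option linter.style.haveILetI false

universe u

open CategoryTheory CategoryTheory.Limits AlgebraicGeometry
open Groth.Agent.CycLib Groth.Agent.BivarLib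

noncomputable section

namespace Groth.Agent.PIChow

variable {X' X : Scheme.{u}} (f : X' ⟶ X) [IsFinite f]

/-- Finite morphisms keep dimension functions. -/
theorem delta_eq {δ' : X' → ℤ} {δ : X → ℤ} (hδ : Cyc.DeltaCompat f δ' δ) (x : X') : δ' x = δ (f x) := by
  obtain ⟨n, hn, e⟩ := hδ x
  letI := (f.residueFieldMap x).hom.toAlgebra
  haveI : Module.Finite (X.residueField (f x)) (X'.residueField x) :=
    EtaleSplit.finite_residueFieldMap f x (f.quasiFiniteAt x)
  obtain rfl : n = 0 := by
    have h := hn.symm.trans (trdeg_eq_zero (R := X.residueField (f x)) (A := X'.residueField x))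
    exact_mod_cast h
  simpa using e

variable [Flat f] [IsLocallyNoetherian X] [IsLocallyNoetherian X']

/-- The multiplicity times the residual degree is the degree. -/
theorem mult_mul_residueDegree (hinj : Function.Injective f) (x : X') :
    ((Module.length (X'.presheaf.stalk x) (X'.presheaf.stalk x ⧸ fibIdeal f x)).toNat : ℤ) *
      (f.residueDegree x : ℤ) = (f.finrank (f x) : ℤ) := by
  rw [(sum_mult_finrank f (f x)).2,
    show f ⁻¹' {f x} = {x} from Set.ext fun w => ⟨fun h => hinj h, fun h => congrArg f h⟩, finsum_mem_singleton,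
    mul_comm]

/-- Push forward along an injective finite map. -/
theorem map_apply (hinj : Function.Injective f) {δ' : X' → ℤ} {δ : X → ℤ} (hδ : Cyc.DeltaCompat f δ' δ)
    (β : AlgebraicCycle X' ℤ) (x : X') :
    AlgebraicCycle.map f δ' δ β (f x) = β x * (f.residueDegree x : ℤ) := by
  classical
  rw [map_apply_eq_sum f β (f x) {x} fun w hw _ => Finset.mem_singleton.2 (hinj hw), Finset.sum_singleton,
    Set.indicator_of_mem (show x ∈ f ⁻¹' {f x} from rfl), AlgebraicCycle.mapCoeff, if_pos (delta_eq f hδ x)]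

/-- Rationally, pullback along a purely inseparable extension of the base field is bijective. -/
theorem bijective_pull (hinj : Function.Injective f) (hsurj : Function.Surjective f) (N : ℕ)
    (hN : ∀ y, f.finrank y = N) {δ' : X' → ℤ} {δ : X → ℤ} (hX : Cyc.IsSetup X δ) (hX' : Cyc.IsSetup X' δ')
    (hδ : Cyc.DeltaCompat f δ' δ) (i : ℤ) :
    (∀ (β : AlgebraicCycle X' ℤ) (hβ : β ∈ Cyc.Zk X' δ' i), ∃ (α : AlgebraicCycle X ℤ) (_ : α ∈ Cyc.Zk X δ i)
      (α' : AlgebraicCycle X' ℤ) (hα' : α' ∈ Cyc.Zk X' δ' i), ⇑α' = Cyc.pullFun f δ' δ 0 ⇑α ∧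
        ChowOps.cl α' hα' = N • ChowOps.cl β hβ) ∧
    (∀ (α : AlgebraicCycle X ℤ) (hα : α ∈ Cyc.Zk X δ i) (α' : AlgebraicCycle X' ℤ) (hα' : α' ∈ Cyc.Zk X' δ' i),
      ⇑α' = Cyc.pullFun f δ' δ 0 ⇑α → ChowOps.cl α' hα' = 0 → N • ChowOps.cl α hα = 0) := by
  have hsh : IsShift f δ' δ 0 := fun x _ => by rw [delta_eq f hδ x, add_zero]
  refine ⟨fun β hβ => ?_, fun α hα α' hα' h h0 => ?_⟩
  · let α := AlgebraicCycle.map f δ' δ β
    let α' := pullCycle hsh hX'.2.2 α
    have e : α' = N • β := Function.locallyFinsuppWithin.ext fun x => by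
      show Cyc.pullFun f δ' δ 0 ⇑α x = _
      rw [pullFun_apply, if_pos (by rw [delta_eq f hδ x, add_zero])]
      show AlgebraicCycle.map f δ' δ β (f x) * _ = _
      rw [map_apply f hinj hδ, mul_assoc, mul_comm (f.residueDegree x : ℤ),
        mult_mul_residueDegree f hinj x, hN, Function.locallyFinsuppWithin.coe_nsmul, Pi.smul_apply, nsmul_eq_mul,
        mul_comm]
    have hα' : α' ∈ Cyc.Zk X' δ' i := e ▸ (ChowOps.zk X' δ' i).nsmul_mem hβ N
    refine ⟨α, Bivar.cycMap_mem_Zk f δ' δ i hβ, α', hα', rfl, ?_⟩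
    rw [Bivar.cl_congr e hα' ((ChowOps.zk X' δ' i).nsmul_mem hβ N)]
    exact map_nsmul (ChowOps.clHom X' δ' i) N ⟨β, hβ⟩
  · have h1 : Cyc.RatEquivZero δ' i α' := by
      have := ratEquiv_of_cl_eq hX'.2.2 (hα := hα') (hβ := (ChowOps.zk X' δ' i).zero_mem) (β := 0) h0
      rwa [Cyc.RatEquiv, sub_zero] at this
    have h2 := ratEquivZero_map f hX' hX hδ h1
    have e : AlgebraicCycle.map f δ' δ α' = N • α := Function.locallyFinsuppWithin.ext fun y => by
      obtain ⟨x, rfl⟩ := hsurj y
      rw [map_apply f hinj hδ, h, pullFun_apply, if_pos (by rw [delta_eq f hδ x, add_zero]), mul_assoc,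
        mult_mul_residueDegree f hinj x, hN, Function.locallyFinsuppWithin.coe_nsmul, Pi.smul_apply, nsmul_eq_mul,
        mul_comm]
    rw [e] at h2
    exact (map_nsmul (ChowOps.clHom X δ i) N ⟨α, hα⟩).symm.trans (cl_eq_zero ((ChowOps.zk X δ i).nsmul_mem hα N) h2)

end Groth.Agent.PIChow
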